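import Mathlib
import Cfsg.Prelude.Def_ChevStructure
import Cfsg.Prelude.Def_ChevG2

/-!
# Project G2T (S2371), definitions: the subsystem subgroup `SL₃ ≤ G₂` on the adjoint module.

The long roots of `G₂` form a system of type `A₂`.  On the 14-dimensional module of `chevG2`
(basis `h₀ h₁ e₀ … e₁₁`) the long root elements act as `Ad A ⊕ A ⊕ A⁻ᵀ` on
`sl₃ ⊕ W ⊕ W*`, with
`h₀ = diag(-1,2,-1)`, `h₁ = diag(1,-1,0)`, `e₀ = E₃₁`, `e₁ = E₃₂`, `e₅ = E₂₁`, `e₆ = E₁₂`,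
`e₁₀ = E₂₃`, `e₁₁ = E₁₃`, `W = ⟨e₈, e₇, e₂⟩`, `W* = ⟨e₃, e₄, e₉⟩`.
-/

set_option autoImplicit false

namespace Cfsg.Agent.Lib.helper14.G2T

open Cfsg.Lie Cfsg.Lie.ChevalleyDatum Matrix

universe u

variable {E : Type u} [CommRing E]

/-- the coordinate `h_i` -/
def hI (i : ℕ) (hi : i < 2 := by decide) : chevG2.Idx := Sum.inl ⟨i, hi⟩

/-- the coordinate `e_r` -/
def eI (r : ℕ) (hr : r < 12 := by decide) : chevG2.Idx := Sum.inr ⟨r, hr⟩

/-- the three coordinates of `W`: `ε₁ = a+b`, `ε₂ = a`, `ε₃ = -(2a+b)` -/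
def wI : Fin 3 → chevG2.Idx := ![eI 8, eI 7, eI 2]

/-- the three coordinates of `W*` -/
def wsI : Fin 3 → chevG2.Idx := ![eI 3, eI 4, eI 9]

/-- the model `gl₃ × W × W*` -/
abbrev Mod (E : Type u) : Type u := Matrix (Fin 3) (Fin 3) E × (Fin 3 → E) × (Fin 3 → E)

/-- coordinates to the model -/
def toMod (v : chevG2.Idx → E) : Mod E :=
  (!![-v (hI 0) + v (hI 1), v (eI 6), v (eI 11);
      v (eI 5), 2 * v (hI 0) - v (hI 1), v (eI 10);
      v (eI 0), v (eI 1), -v (hI 0)],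
   ![v (eI 8), v (eI 7), v (eI 2)], ![v (eI 3), v (eI 4), v (eI 9)])

/-- the model to coordinates (a retraction of `toMod`) -/
def ofMod (m : Mod E) : chevG2.Idx → E
  | Sum.inl i => if i.val = 0 then -m.1 2 2 else m.1 0 0 - m.1 2 2
  | Sum.inr r =>
    match r.val with
    | 0 => m.1 2 0
    | 1 => m.1 2 1
    | 2 => m.2.1 2
    | 3 => m.2.2 0
    | 4 => m.2.2 1
    | 5 => m.1 1 0
    | 6 => m.1 0 1
    | 7 => m.2.1 1
    | 8 => m.2.1 0
    | 9 => m.2.2 2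
    | 10 => m.1 1 2
    | _ => m.1 0 2

/-- the action of a `3 × 3` matrix on the model -/
def actMod (A : Matrix (Fin 3) (Fin 3) E) (m : Mod E) : Mod E :=
  (A * m.1 * A.adjugate, A *ᵥ m.2.1, A.adjugateᵀ *ᵥ m.2.2)

/-- the `14 × 14` matrix of `A` -/
def Phi (A : Matrix (Fin 3) (Fin 3) E) : Matrix chevG2.Idx chevG2.Idx E :=
  Matrix.of fun i j => ofMod (actMod A (toMod (Pi.single j 1))) i

/-- the root indices of the coordinates of `W` -/
def wroot : Fin 3 → ℕ := ![8, 7, 2]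

/-- the `W`-block of a `14 × 14` matrix -/
def gW {R : Type*} (g : Matrix chevG2.Idx chevG2.Idx R) : Matrix (Fin 3) (Fin 3) R :=
  Matrix.of fun i j => g (wI i) (wI j)

section field

variable {K : Type u} [Field K]

/-- the character of the torus element `h_a(c₀) h_b(c₁)` (`a = ` root 7 short, `b = ` root 6 long) -/
def chi (c0 c1 : K) (r : ℕ) : K := c0 ^ chevG2.cartan 0 r * c1 ^ chevG2.cartan 1 r

/-- the torus element `h_a(c₀) h_b(c₁)` as a matrix -/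
def hh (c0 c1 : K) : Matrix chevG2.Idx chevG2.Idx K := chevG2.hMat K 7 c0 * chevG2.hMat K 6 c1

/-- the Moore matrix `(b_j ^ (q ^ k))_{k j}` -/
def moore (b : Fin 3 → K) (q : ℕ) : Matrix (Fin 3) (Fin 3) K :=
  Matrix.of fun k j => b j ^ q ^ (k : ℕ)

/-- the conjugates `lam ^ (q ^ k)` -/
def lamD (lam : K) (q : ℕ) : Fin 3 → K := fun k => lam ^ q ^ (k : ℕ)

end field

end Cfsg.Agent.Lib.helper14.G2T
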