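import Mathlib
import Cfsg.Agent.Lib.helper14.G2T.Defs

/-!
# Project G2T (S2371): `Phi` is multiplicative on matrices of determinant one.
-/

set_option autoImplicit false

namespace Cfsg.Agent.Lib.helper14.G2T

open Cfsg.Lie Cfsg.Lie.ChevalleyDatum Matrix

universe u

variable {E : Type u} [CommRing E]

theorem idx_cases (P : chevG2.Idx → Prop) (h0 : P (hI 0)) (h1 : P (hI 1))
    (e0 : P (eI 0)) (e1 : P (eI 1)) (e2 : P (eI 2)) (e3 : P (eI 3)) (e4 : P (eI 4))
    (e5 : P (eI 5)) (e6 : P (eI 6)) (e7 : P (eI 7)) (e8 : P (eI 8)) (e9 : P (eI 9))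
    (e10 : P (eI 10)) (e11 : P (eI 11)) : ∀ x, P x := by
  rintro (⟨i, hi⟩ | ⟨r, hr⟩)
  · have hi' : i < 2 := hi
    interval_cases i
    · exact h0
    · exact h1
  · have hr' : r < 12 := hr
    interval_cases r
    · exact e0
    · exact e1
    · exact e2
    · exact e3
    · exact e4
    · exact e5
    · exact e6
    · exact e7
    · exact e8
    · exact e9
    · exact e10
    · exact e11

theorem ofMod_toMod (v : chevG2.Idx → E) : ofMod (toMod v) = v := by
  funext x
  revert x
  apply idx_cases <;> simp [ofMod, toMod, hI, eI]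

theorem trace_toMod (v : chevG2.Idx → E) : (toMod v).1.trace = 0 := by
  simp [toMod, Matrix.trace_fin_three]
  ring

theorem toMod_ofMod (m : Mod E) (h : m.1.trace = 0) : toMod (ofMod m) = m := by
  rw [Matrix.trace_fin_three] at h
  have h11 : m.1 1 1 = -m.1 0 0 - m.1 2 2 := by linear_combination h
  obtain ⟨X, w, f⟩ := m
  simp only [toMod, ofMod, hI, eI] at *
  refine Prod.ext ?_ (Prod.ext ?_ ?_)
  · ext i j
    fin_cases i <;> fin_cases j <;> simp [h11] <;> ring
  · funext i
    fin_cases i <;> simp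
  · funext i
    fin_cases i <;> simp

theorem toMod_add (v w : chevG2.Idx → E) : toMod (v + w) = toMod v + toMod w := by
  refine Prod.ext ?_ (Prod.ext ?_ ?_)
  · ext i j
    fin_cases i <;> fin_cases j <;> simp [toMod] <;> ring
  · funext i
    fin_cases i <;> simp [toMod]
  · funext i
    fin_cases i <;> simp [toMod]

theorem toMod_smul (c : E) (v : chevG2.Idx → E) : toMod (c • v) = c • toMod v := by
  refine Prod.ext ?_ (Prod.ext ?_ ?_)
  · ext i j
    fin_cases i <;> fin_cases j <;> simp [toMod] <;> ring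
  · funext i
    fin_cases i <;> simp [toMod]
  · funext i
    fin_cases i <;> simp [toMod]

theorem ofMod_add (m n : Mod E) : ofMod (m + n) = ofMod m + ofMod n := by
  funext x
  revert x
  apply idx_cases <;> simp [ofMod, hI, eI] <;> ring

theorem ofMod_smul (c : E) (m : Mod E) : ofMod (c • m) = c • ofMod m := by
  funext x
  revert x
  apply idx_cases <;> simp [ofMod, hI, eI] <;> ring

theorem actMod_add (A : Matrix (Fin 3) (Fin 3) E) (m n : Mod E) :
    actMod A (m + n) = actMod A m + actMod A n := by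
  simp [actMod, Matrix.mul_add, Matrix.add_mul, Matrix.mulVec_add]

theorem actMod_smul (A : Matrix (Fin 3) (Fin 3) E) (c : E) (m : Mod E) :
    actMod A (c • m) = c • actMod A m := by
  simp [actMod, Matrix.mulVec_smul]

/-- the linear map underlying `Phi A` -/
def PhiLin (A : Matrix (Fin 3) (Fin 3) E) : (chevG2.Idx → E) →ₗ[E] (chevG2.Idx → E) where
  toFun v := ofMod (actMod A (toMod v))
  map_add' v w := by rw [toMod_add, actMod_add, ofMod_add]
  map_smul' c v := by rw [toMod_smul, actMod_smul, ofMod_smul]; rfl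

theorem Phi_eq_toMatrix' (A : Matrix (Fin 3) (Fin 3) E) : Phi A = LinearMap.toMatrix' (PhiLin A) := by
  ext i j
  rw [LinearMap.toMatrix'_apply]
  rfl

theorem Phi_mulVec (A : Matrix (Fin 3) (Fin 3) E) (v : chevG2.Idx → E) :
    Phi A *ᵥ v = ofMod (actMod A (toMod v)) := by
  rw [Phi_eq_toMatrix', LinearMap.toMatrix'_mulVec]
  rfl

theorem trace_actMod (A : Matrix (Fin 3) (Fin 3) E) (m : Mod E) :
    (actMod A m).1.trace = A.det * m.1.trace := by
  show (A * m.1 * A.adjugate).trace = _
  rw [Matrix.trace_mul_comm, ← Matrix.mul_assoc, Matrix.adjugate_mul, Matrix.smul_mul,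
    Matrix.one_mul, Matrix.trace_smul, smul_eq_mul]

theorem actMod_mul (A B : Matrix (Fin 3) (Fin 3) E) (m : Mod E) :
    actMod (A * B) m = actMod A (actMod B m) := by
  simp only [actMod, Matrix.adjugate_mul_distrib, Matrix.transpose_mul, Matrix.mulVec_mulVec,
    Matrix.mul_assoc]

theorem actMod_one (m : Mod E) : actMod (1 : Matrix (Fin 3) (Fin 3) E) m = m := by
  simp [actMod]

theorem Phi_mul (A B : Matrix (Fin 3) (Fin 3) E) : Phi (A * B) = Phi A * Phi B := by
  rw [Phi_eq_toMatrix', Phi_eq_toMatrix', Phi_eq_toMatrix', ← LinearMap.toMatrix'_comp]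
  congr 1
  apply LinearMap.ext
  intro v
  show ofMod (actMod (A * B) (toMod v)) = ofMod (actMod A (toMod (ofMod (actMod B (toMod v)))))
  rw [toMod_ofMod _ (by rw [trace_actMod, trace_toMod, mul_zero]), actMod_mul]

theorem Phi_one : Phi (1 : Matrix (Fin 3) (Fin 3) E) = 1 := by
  have h : PhiLin (1 : Matrix (Fin 3) (Fin 3) E) = LinearMap.id := by
    apply LinearMap.ext
    intro v
    show ofMod (actMod 1 (toMod v)) = v
    rw [actMod_one, ofMod_toMod]
  rw [Phi_eq_toMatrix', h, LinearMap.toMatrix'_id]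

/-- `Phi` as a monoid homomorphism -/
def PhiHom : Matrix (Fin 3) (Fin 3) E →* Matrix chevG2.Idx chevG2.Idx E where
  toFun := Phi
  map_one' := Phi_one
  map_mul' := Phi_mul

/-- `Phi` on `SL₃` -/
noncomputable def PhiGL : Matrix.SpecialLinearGroup (Fin 3) E →* GL chevG2.Idx E :=
  (Units.map PhiHom).comp Matrix.SpecialLinearGroup.toGL

theorem PhiGL_val (A : Matrix.SpecialLinearGroup (Fin 3) E) :
    ((PhiGL A : GL chevG2.Idx E) : Matrix chevG2.Idx chevG2.Idx E) =
      Phi (A : Matrix (Fin 3) (Fin 3) E) := rfl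

end Cfsg.Agent.Lib.helper14.G2T
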