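import Mathlib
import Cfsg.Agent.Lib.helper14.G2T.Basic

/-!
# Project G2T (S2371), rows A1-A6: `Phi (1 + t E_ij) = x_r(t)` for the six long roots.
-/

set_option autoImplicit false

namespace Cfsg.Agent.Lib.helper14.G2T

open Cfsg.Lie Cfsg.Lie.ChevalleyDatum Matrix

universe u

variable {E : Type u} [Field E]

set_option maxHeartbeats 40000000 in
theorem Phi_x6 (t : E) : Phi (1 + Matrix.single (0 : Fin 3) (1 : Fin 3) t) = chevG2.x E 6 t := by
  have hadj : (1 + Matrix.single (0 : Fin 3) (1 : Fin 3) t).adjugate = !![1, -t, 0; 0, 1, 0; 0, 0, 1] := by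
    rw [Matrix.adjugate_fin_three]
    ext i j
    fin_cases i <;> fin_cases j <;> simp [Matrix.single]
  have hA : (1 + Matrix.single (0 : Fin 3) (1 : Fin 3) t) = !![1, t, 0; 0, 1, 0; 0, 0, 1] := by
    ext i j
    fin_cases i <;> fin_cases j <;> simp [Matrix.single]
  have hact : ∀ m : Mod E, actMod (1 + Matrix.single (0 : Fin 3) (1 : Fin 3) t) m =
      (!![1, t, 0; 0, 1, 0; 0, 0, 1] * m.1 * !![1, -t, 0; 0, 1, 0; 0, 0, 1], !![1, t, 0; 0, 1, 0; 0, 0, 1] *ᵥ m.2.1,
        !![1, -t, 0; 0, 1, 0; 0, 0, 1]ᵀ *ᵥ m.2.2) := by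
    intro m
    unfold actMod
    rw [hadj, hA]
  unfold ChevalleyDatum.x
  rw [dif_pos (by decide)]
  ext i j
  revert j
  apply idx_cases
  all_goals
    revert i
    apply idx_cases
  all_goals
    simp only [ChevalleyDatum.xMat, Phi]
    rw [Matrix.of_apply, Matrix.of_apply, hact]
    simp only [ofMod, toMod, eI, hI]
    simp [Matrix.mul_apply, Fin.sum_univ_three, Matrix.mulVec, dotProduct, Fin.ext_iff]
    try simp [chainCoeff, chevG2, chevG2Chain, chevG2Chain6, chevG2NegIdx, chevG2Coroot, chevG2CartanSR]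
    try ring

set_option maxHeartbeats 40000000 in
theorem Phi_x5 (t : E) : Phi (1 + Matrix.single (1 : Fin 3) (0 : Fin 3) t) = chevG2.x E 5 t := by
  have hadj : (1 + Matrix.single (1 : Fin 3) (0 : Fin 3) t).adjugate = !![1, 0, 0; -t, 1, 0; 0, 0, 1] := by
    rw [Matrix.adjugate_fin_three]
    ext i j
    fin_cases i <;> fin_cases j <;> simp [Matrix.single]
  have hA : (1 + Matrix.single (1 : Fin 3) (0 : Fin 3) t) = !![1, 0, 0; t, 1, 0; 0, 0, 1] := by
    ext i j
    fin_cases i <;> fin_cases j <;> simp [Matrix.single]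
  have hact : ∀ m : Mod E, actMod (1 + Matrix.single (1 : Fin 3) (0 : Fin 3) t) m =
      (!![1, 0, 0; t, 1, 0; 0, 0, 1] * m.1 * !![1, 0, 0; -t, 1, 0; 0, 0, 1], !![1, 0, 0; t, 1, 0; 0, 0, 1] *ᵥ m.2.1,
        !![1, 0, 0; -t, 1, 0; 0, 0, 1]ᵀ *ᵥ m.2.2) := by
    intro m
    unfold actMod
    rw [hadj, hA]
  unfold ChevalleyDatum.x
  rw [dif_pos (by decide)]
  ext i j
  revert j
  apply idx_cases
  all_goals
    revert i
    apply idx_cases
  all_goals
    simp only [ChevalleyDatum.xMat, Phi]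
    rw [Matrix.of_apply, Matrix.of_apply, hact]
    simp only [ofMod, toMod, eI, hI]
    simp [Matrix.mul_apply, Fin.sum_univ_three, Matrix.mulVec, dotProduct, Fin.ext_iff]
    try simp [chainCoeff, chevG2, chevG2Chain, chevG2Chain5, chevG2NegIdx, chevG2Coroot, chevG2CartanSR]
    try ring

set_option maxHeartbeats 40000000 in
theorem Phi_x10 (t : E) : Phi (1 + Matrix.single (1 : Fin 3) (2 : Fin 3) t) = chevG2.x E 10 t := by
  have hadj : (1 + Matrix.single (1 : Fin 3) (2 : Fin 3) t).adjugate = !![1, 0, 0; 0, 1, -t; 0, 0, 1] := by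
    rw [Matrix.adjugate_fin_three]
    ext i j
    fin_cases i <;> fin_cases j <;> simp [Matrix.single]
  have hA : (1 + Matrix.single (1 : Fin 3) (2 : Fin 3) t) = !![1, 0, 0; 0, 1, t; 0, 0, 1] := by
    ext i j
    fin_cases i <;> fin_cases j <;> simp [Matrix.single]
  have hact : ∀ m : Mod E, actMod (1 + Matrix.single (1 : Fin 3) (2 : Fin 3) t) m =
      (!![1, 0, 0; 0, 1, t; 0, 0, 1] * m.1 * !![1, 0, 0; 0, 1, -t; 0, 0, 1], !![1, 0, 0; 0, 1, t; 0, 0, 1] *ᵥ m.2.1,
        !![1, 0, 0; 0, 1, -t; 0, 0, 1]ᵀ *ᵥ m.2.2) := by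
    intro m
    unfold actMod
    rw [hadj, hA]
  unfold ChevalleyDatum.x
  rw [dif_pos (by decide)]
  ext i j
  revert j
  apply idx_cases
  all_goals
    revert i
    apply idx_cases
  all_goals
    simp only [ChevalleyDatum.xMat, Phi]
    rw [Matrix.of_apply, Matrix.of_apply, hact]
    simp only [ofMod, toMod, eI, hI]
    simp [Matrix.mul_apply, Fin.sum_univ_three, Matrix.mulVec, dotProduct, Fin.ext_iff]
    try simp [chainCoeff, chevG2, chevG2Chain, chevG2Chain10, chevG2NegIdx, chevG2Coroot, chevG2CartanSR]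
    try ring

set_option maxHeartbeats 40000000 in
theorem Phi_x1 (t : E) : Phi (1 + Matrix.single (2 : Fin 3) (1 : Fin 3) t) = chevG2.x E 1 t := by
  have hadj : (1 + Matrix.single (2 : Fin 3) (1 : Fin 3) t).adjugate = !![1, 0, 0; 0, 1, 0; 0, -t, 1] := by
    rw [Matrix.adjugate_fin_three]
    ext i j
    fin_cases i <;> fin_cases j <;> simp [Matrix.single]
  have hA : (1 + Matrix.single (2 : Fin 3) (1 : Fin 3) t) = !![1, 0, 0; 0, 1, 0; 0, t, 1] := by
    ext i j
    fin_cases i <;> fin_cases j <;> simp [Matrix.single]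
  have hact : ∀ m : Mod E, actMod (1 + Matrix.single (2 : Fin 3) (1 : Fin 3) t) m =
      (!![1, 0, 0; 0, 1, 0; 0, t, 1] * m.1 * !![1, 0, 0; 0, 1, 0; 0, -t, 1], !![1, 0, 0; 0, 1, 0; 0, t, 1] *ᵥ m.2.1,
        !![1, 0, 0; 0, 1, 0; 0, -t, 1]ᵀ *ᵥ m.2.2) := by
    intro m
    unfold actMod
    rw [hadj, hA]
  unfold ChevalleyDatum.x
  rw [dif_pos (by decide)]
  ext i j
  revert j
  apply idx_cases
  all_goals
    revert i
    apply idx_cases
  all_goals
    simp only [ChevalleyDatum.xMat, Phi]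
    rw [Matrix.of_apply, Matrix.of_apply, hact]
    simp only [ofMod, toMod, eI, hI]
    simp [Matrix.mul_apply, Fin.sum_univ_three, Matrix.mulVec, dotProduct, Fin.ext_iff]
    try simp [chainCoeff, chevG2, chevG2Chain, chevG2Chain1, chevG2NegIdx, chevG2Coroot, chevG2CartanSR]
    try ring

set_option maxHeartbeats 40000000 in
theorem Phi_x11 (t : E) : Phi (1 + Matrix.single (0 : Fin 3) (2 : Fin 3) t) = chevG2.x E 11 t := by
  have hadj : (1 + Matrix.single (0 : Fin 3) (2 : Fin 3) t).adjugate = !![1, 0, -t; 0, 1, 0; 0, 0, 1] := by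
    rw [Matrix.adjugate_fin_three]
    ext i j
    fin_cases i <;> fin_cases j <;> simp [Matrix.single]
  have hA : (1 + Matrix.single (0 : Fin 3) (2 : Fin 3) t) = !![1, 0, t; 0, 1, 0; 0, 0, 1] := by
    ext i j
    fin_cases i <;> fin_cases j <;> simp [Matrix.single]
  have hact : ∀ m : Mod E, actMod (1 + Matrix.single (0 : Fin 3) (2 : Fin 3) t) m =
      (!![1, 0, t; 0, 1, 0; 0, 0, 1] * m.1 * !![1, 0, -t; 0, 1, 0; 0, 0, 1], !![1, 0, t; 0, 1, 0; 0, 0, 1] *ᵥ m.2.1,
        !![1, 0, -t; 0, 1, 0; 0, 0, 1]ᵀ *ᵥ m.2.2) := by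
    intro m
    unfold actMod
    rw [hadj, hA]
  unfold ChevalleyDatum.x
  rw [dif_pos (by decide)]
  ext i j
  revert j
  apply idx_cases
  all_goals
    revert i
    apply idx_cases
  all_goals
    simp only [ChevalleyDatum.xMat, Phi]
    rw [Matrix.of_apply, Matrix.of_apply, hact]
    simp only [ofMod, toMod, eI, hI]
    simp [Matrix.mul_apply, Fin.sum_univ_three, Matrix.mulVec, dotProduct, Fin.ext_iff]
    try simp [chainCoeff, chevG2, chevG2Chain, chevG2Chain11, chevG2NegIdx, chevG2Coroot, chevG2CartanSR]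
    try ring

set_option maxHeartbeats 40000000 in
theorem Phi_x0 (t : E) : Phi (1 + Matrix.single (2 : Fin 3) (0 : Fin 3) t) = chevG2.x E 0 t := by
  have hadj : (1 + Matrix.single (2 : Fin 3) (0 : Fin 3) t).adjugate = !![1, 0, 0; 0, 1, 0; -t, 0, 1] := by
    rw [Matrix.adjugate_fin_three]
    ext i j
    fin_cases i <;> fin_cases j <;> simp [Matrix.single]
  have hA : (1 + Matrix.single (2 : Fin 3) (0 : Fin 3) t) = !![1, 0, 0; 0, 1, 0; t, 0, 1] := by
    ext i j
    fin_cases i <;> fin_cases j <;> simp [Matrix.single]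
  have hact : ∀ m : Mod E, actMod (1 + Matrix.single (2 : Fin 3) (0 : Fin 3) t) m =
      (!![1, 0, 0; 0, 1, 0; t, 0, 1] * m.1 * !![1, 0, 0; 0, 1, 0; -t, 0, 1], !![1, 0, 0; 0, 1, 0; t, 0, 1] *ᵥ m.2.1,
        !![1, 0, 0; 0, 1, 0; -t, 0, 1]ᵀ *ᵥ m.2.2) := by
    intro m
    unfold actMod
    rw [hadj, hA]
  unfold ChevalleyDatum.x
  rw [dif_pos (by decide)]
  ext i j
  revert j
  apply idx_cases
  all_goals
    revert i
    apply idx_cases
  all_goals
    simp only [ChevalleyDatum.xMat, Phi]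
    rw [Matrix.of_apply, Matrix.of_apply, hact]
    simp only [ofMod, toMod, eI, hI]
    simp [Matrix.mul_apply, Fin.sum_univ_three, Matrix.mulVec, dotProduct, Fin.ext_iff]
    try simp [chainCoeff, chevG2, chevG2Chain, chevG2Chain0, chevG2NegIdx, chevG2Coroot, chevG2CartanSR]
    try ring

end Cfsg.Agent.Lib.helper14.G2T
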